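import Cfsg.Agent.H509.RIM.Three
import Cfsg.Agent.H509.QS.GTwo
import Cfsg.Agent.Nodes.ChevChart
import Cfsg.Agent.S1055

/-!
# `NBall 3` for `G₂(4)` (S4816; helper509)

The restriction of the Leech character to `2.G₂(4) < Co₀`: an element `x` of order 13 has no fixed vectors and is
conjugate to `x ^ 3`, so all constituents (they are faithful) have degree divisible by three.
-/

set_option autoImplicit false

namespace Cfsg.Agent.H509.RIM.GTwo

open Subgroup Cfsg Cfsg.Lie Cfsg.Agent.H51.Mult Cfsg.Agent.H509.QS Cfsg.Agent.H419.LeechIrr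
open Cfsg.Agent.SporadicA Cfsg.Agent.SporadicStructure.Co0Matrix Cfsg.Agent.CoOneType.CoEval
  Cfsg.Agent.CoOneType Cfsg.Agent.SporadicStructure
open Cfsg.Agent.KFacts.Co1D4
open Cfsg.Agent.H64.CoverG24 Cfsg.Agent.Characters.Core

universe u v

/-- the element of order 13 -/
def wx : List ℕ := [0, 1, 2, 3, 4, 1, 5]

/-- it conjugates `wx` to its cube -/
def wk : List ℕ := [2, 3, 2, 1, 0, 1, 2, 4, 5, 1, 0, 1, 2, 3, 2, 3, 4, 1, 2, 3, 0, 1, 2, 3, 2]

theorem wx_13 : (wx.map Letters.e).prod ^ 13 = 1 := by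
  have h := eq_one_of_oneB Letters.hM (w := wx ++ wx ++ wx ++ wx ++ wx ++ wx ++ wx ++ wx ++ wx ++ wx ++ wx ++ wx ++ wx)
    (by decide +kernel)
  simp only [List.map_append, List.prod_append] at h
  simp only [pow_succ, pow_zero, one_mul]
  exact h

theorem wk_conj : (wk.map Letters.e).prod * (wx.map Letters.e).prod * (wk.map Letters.e).prod⁻¹ =
    (wx.map Letters.e).prod ^ 3 := by
  have h := Letters.eq_of_eqB (u := wk ++ wx) (v := wx ++ wx ++ wx ++ wk) (by decide +kernel)
  simp only [List.map_append, List.prod_append] at h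
  rw [h, mul_inv_cancel_right, pow_succ, pow_two]

theorem tr_a : ((List.range 6).map fun i => (fold Letters.M wx (Letters.unitL i)).getD i 0).sum +
    (((List.range 6).map fun i => (fold Letters.M wx (Letters.unitL (i + 6))).getD (i + 6) 0).sum +
    (((List.range 6).map fun i => (fold Letters.M wx (Letters.unitL (i + 12))).getD (i + 12) 0).sum +
    ((List.range 6).map fun i => (fold Letters.M wx (Letters.unitL (i + 18))).getD (i + 18) 0).sum)) = -16 := by
  decide +kernel

theorem tr_wx : Co2Type.Mono.tr8 (wx.map Letters.e).prod = -16 := by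
  rw [Letters.tr8_word, ← tr_a]
  have h : ∀ f : ℕ → ℤ, ((List.range 24).map f).sum = ((List.range 6).map f).sum +
      (((List.range 6).map fun i => f (i + 6)).sum + (((List.range 6).map fun i => f (i + 12)).sum +
        ((List.range 6).map fun i => f (i + 18)).sum)) := by
    intro f
    rw [Letters.range_four_six, List.map_append, List.map_append, List.map_append, List.sum_append, List.sum_append,
      List.sum_append, List.map_map, List.map_map, List.map_map]
    rfl
  unfold Letters.trW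
  rw [h]

/-- the cover with its elements -/
theorem exists_data_L : ∃ (Γ : Type) (_ : Group Γ) (_ : Finite Γ) (σ : Γ →* KFacts.Co1D4.GTwo.L) (z x k : Γ)
    (f : Γ →* Co0), PCE σ ∧ Dbl σ z ∧ f z = Co0Basic.negCo0 ∧ orderOf x = 13 ∧ k * x * k⁻¹ = x ^ 3 ∧
      lchi f x = -2 := by
  have hfin : Finite Co0 := CoOneType.FrameFix.finite_co0
  have hs : Function.Surjective (QuotientGroup.mk' (Subgroup.center Co0)) := QuotientGroup.mk'_surjective _
  have hmem : ∀ i < 6, QuotientGroup.mk' (Subgroup.center Co0) (Letters.e i) ∈ KFacts.Co1D4.GTwo.L :=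
    fun i hi => Subgroup.subset_closure ⟨⟨i, hi⟩, rfl⟩
  have hP := pce_cov hs ker_pr KFacts.Co1D4.GTwo.perf_L
  obtain ⟨y, hy, k, hk, e⟩ := split hs KFacts.Co1D4.GTwo.perf_L (hmem 3 (by norm_num))
  have hyy : y * y = 1 := sq_center (ker_pr hy)
  have hkk : k * k = Co0Basic.negCo0 := by
    rw [← sq_letter, e]
    have h3 : k * y = y * k := mem_center_iff.1 (ker_pr hy) k
    calc k * k = k * k * (y * y) := by rw [hyy, mul_one]
      _ = k * (k * y) * y := by group
      _ = k * (y * k) * y := by rw [h3]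
      _ = k * y * (k * y) := by group
  have hneg : Co0Basic.negCo0 ∈ Hat (QuotientGroup.mk' (Subgroup.center Co0)) KFacts.Co1D4.GTwo.L := by
    rw [← hkk]
    exact mul_mem hk hk
  have hlet : ∀ i < 6, Letters.e i ∈ Hat (QuotientGroup.mk' (Subgroup.center Co0)) KFacts.Co1D4.GTwo.L := by
    intro i hi
    obtain ⟨y, hy, k, hk, e⟩ := split hs KFacts.Co1D4.GTwo.perf_L (hmem i hi)
    rw [e]
    refine mul_mem hk ?_
    rcases Co0Basic.eq_one_or_neg_of_mem_center (ker_pr hy) with rfl | rfl
    · exact one_mem _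
    · exact hneg
  have hword : ∀ w : List ℕ, (∀ i ∈ w, i < 6) →
      (w.map Letters.e).prod ∈ Hat (QuotientGroup.mk' (Subgroup.center Co0)) KFacts.Co1D4.GTwo.L := by
    intro w hw
    induction w with
    | nil => exact one_mem _
    | cons a w ih =>
      rw [List.map_cons, List.prod_cons]
      exact mul_mem (hlet a (hw a (by simp))) (ih fun i hi => hw i (by simp [hi]))
  refine ⟨Hat (QuotientGroup.mk' (Subgroup.center Co0)) KFacts.Co1D4.GTwo.L, inferInstance, inferInstance, cov _ _,
    ⟨Co0Basic.negCo0, hneg⟩, ⟨_, hword wx (by decide)⟩, ⟨_, hword wk (by decide)⟩,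
    (Hat (QuotientGroup.mk' (Subgroup.center Co0)) KFacts.Co1D4.GTwo.L).subtype, hP, ⟨hP.surj, hP.cen, ?_, ?_, ?_⟩,
    rfl, ?_, ?_, ?_⟩
  · intro x hx
    have h1 : (x : Co0) ∈ Subgroup.center Co0 := by
      refine (QuotientGroup.eq_one_iff _).1 ?_
      exact (cov_apply (p := QuotientGroup.mk' (Subgroup.center Co0)) KFacts.Co1D4.GTwo.L x).symm.trans
        (congrArg Subtype.val hx)
    rcases Co0Basic.eq_one_or_neg_of_mem_center h1 with h | h
    · exact .inl (Subtype.ext h)
    · exact .inr (Subtype.ext h)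
  · apply Subtype.ext
    rw [cov_apply]
    exact pr_neg
  · intro h
    exact Co0Basic.negCo0_ne_one (congrArg Subtype.val h)
  · refine orderOf_eq_prime (hp := ⟨by norm_num⟩) (Subtype.ext wx_13) fun h => ?_
    have h1 : (wx.map Letters.e).prod = 1 := congrArg Subtype.val h
    have h2 := tr_wx
    rw [h1, Cfsg.Agent.SigZeroCo2.Lin.tr8_one] at h2
    norm_num at h2
  · exact Subtype.ext wk_conj
  · show (Co2Type.Mono.tr8 (wx.map Letters.e).prod : ℂ) / 8 = -2
    rw [tr_wx]
    norm_num

/-- **A faithful character of the cover of degree divisible by three.** -/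
theorem exists_cover_three {F : Type v} [Field F] [Fintype F] (hF : Fintype.card F = 4) :
    ∃ (Γ : Type) (_ : Group Γ) (_ : Finite Γ) (σ : Γ →* ↥(chevG2.group F)) (z : Γ), PCE σ ∧ Dbl σ z ∧
      ∃ χ : Γ → ℂ, IsIrrCharacter Γ χ ∧ (∀ g, χ (g * z) = -χ g) ∧ 3 ∣ charDegree χ := by
  obtain ⟨e⟩ := StdG24.Iso6.equiv_chev F hF
  obtain ⟨Γ, _, _, σ, z, x, k, f, h1, h2, hfz, hx, hk, ht⟩ := exists_data_L
  refine ⟨Γ, inferInstance, inferInstance, (KFacts.Co1D4.GTwo.φ.symm.trans e).toMonoidHom.comp σ, z, h1.congr _,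
    QS.GTwo.Dbl.congr h2 _, exists_three f (h2.cen h2.hz) h2.zz (fun g => ?_) hx hk ht⟩
  unfold lchi
  rw [map_mul, hfz]
  have h3 : Co2Type.Mono.tr8 (f g * Co0Basic.negCo0) = -Co2Type.Mono.tr8 (f g) := by
    rw [mem_center_iff.1 Co0Basic.negCo0_mem_center (f g)]
    unfold Co2Type.Mono.tr8
    rw [← Finset.sum_neg_distrib]
    refine Finset.sum_congr rfl fun i _ => ?_
    rw [mul_smul]
    show ((Co0Basic.negCo0.1 (f g • Co0Base.e8 i) : leechLattice) : GolayPt → ℤ) i = _
    rw [Co0Basic.negCo0_apply]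
    rfl
  rw [h3]
  push_cast
  ring

theorem exists_ne {F : Type v} [Field F] (h4 : 3 ≤ Nat.card F) : ∃ t : F, t ≠ 0 ∧ t ≠ 1 := by
  classical
  by_contra h
  push Not at h
  have h1 : (Set.univ : Set F) ⊆ {0, 1} := by
    intro x _
    by_cases hx : x = 0
    · exact .inl hx
    · exact .inr (h x hx)
  have h2 := Set.ncard_le_ncard h1 (Set.toFinite _)
  rw [Set.ncard_univ] at h2
  have h3 := Set.ncard_insert_le (0 : F) {1}
  rw [Set.ncard_singleton] at h3
  omega

theorem center_bot {F : Type v} [Field F] [Fintype F] (hF : Fintype.card F = 4) :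
    Subgroup.center ↥(chevG2.group F) = ⊥ := by
  obtain ⟨t, h0, h1⟩ := exists_ne (F := F) (by rw [Nat.card_eq_fintype_card]; omega)
  exact Cfsg.Agent.Nodes.ChevChart.center_eq_bot (Cfsg.Agent.S1055.result ⟨t, h0, h1⟩)

/-- **`NBall 3` for `G₂(4)`.** -/
theorem nball_three {S : Type u} [Group S] [Finite S] {F : Type v} [Field F] [Fintype F] (hF : Fintype.card F = 4)
    (e : S ≃* ↥(chevG2.group F)) : Cfsg.Agent.H665.RIM.NBall 3 S := by
  intro m hm h3 E _ _ π hs hc hp hcard l hl
  obtain ⟨Γ, _, _, σ, z, h1, h2, χ, hχ, hχz, hχ3⟩ := exists_cover_three hF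
  have hcσ : Nat.card σ.ker = 2 := QS.GTwo.Dbl.card_ker h2
  have hπ : PCE (e.toMonoidHom.comp π) := (⟨hs, hc, hp⟩ : PCE π).congr e
  obtain ⟨θ, hθ⟩ := Cfsg.Agent.H990.TC.exists_surj_of_card (Cfsg.Agent.S2102.result hF) h1
    (by rw [hcσ, Nat.card_congr (Multiplicative.toAdd : Multiplicative (ZMod 2) ≃ ZMod 2), Nat.card_zmod]) hπ
  have hE : Nat.card E = m * Nat.card ↥(chevG2.group F) := by
    rw [← hcard, ← Nat.card_congr e.toEquiv, ← Subgroup.card_mul_index π.ker, Subgroup.index_ker,
      MonoidHom.range_eq_top.2 hs]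
    congr 1
    exact Nat.card_congr Subgroup.topEquiv.toEquiv
  have hΓ : Nat.card Γ = 2 * Nat.card ↥(chevG2.group F) := by
    rw [← hcσ, ← Subgroup.card_mul_index σ.ker, Subgroup.index_ker, MonoidHom.range_eq_top.2 h1.surj]
    congr 1
    exact Nat.card_congr Subgroup.topEquiv.toEquiv
  have hS0 : 0 < Nat.card ↥(chevG2.group F) := by
    rw [← Nat.card_congr e.toEquiv]
    exact Nat.card_pos
  have hle : Nat.card E ≤ Nat.card Γ := Nat.card_le_card_of_surjective θ hθ
  have hm2 : m = 2 := by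
    rw [hE, hΓ] at hle
    have := Nat.le_of_mul_le_mul_right hle hS0
    omega
  subst hm2
  have hinj : Function.Injective θ := by
    have h4 : Function.Bijective θ := (Nat.bijective_iff_surjective_and_card θ).2 ⟨hθ, by rw [hE, hΓ]⟩
    exact h4.1
  -- the kernel
  have hz : ∀ w : E, w ∈ π.ker → w = 1 ∨ w = θ z := by
    intro w hw
    obtain ⟨y, rfl⟩ := hθ w
    have h4 : y ∈ Subgroup.center Γ := by
      rw [Subgroup.mem_center_iff]
      intro g
      apply hinj
      rw [map_mul, map_mul]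
      exact Subgroup.mem_center_iff.1 (hc hw) (θ g)
    have h5 : σ y = 1 := by
      have h6 : σ y ∈ Subgroup.center ↥(chevG2.group F) := by
        rw [Subgroup.mem_center_iff]
        intro g
        obtain ⟨g, rfl⟩ := h1.surj g
        rw [← map_mul, ← map_mul, Subgroup.mem_center_iff.1 h4 g]
      rw [center_bot hF, Subgroup.mem_bot] at h6
      exact h6
    rcases h2.mem y h5 with rfl | rfl
    · exact .inl (map_one θ)
    · exact .inr rfl
  let Θ : Γ ≃* E := MulEquiv.ofBijective θ ⟨hinj, hθ⟩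
  refine ⟨fun g => χ (Θ.symm g), isIrr_comp Θ.symm.toMonoidHom Θ.symm.surjective hχ, fun w => ?_, ?_⟩
  · rcases hz w w.2 with h | h
    · have h4 : w = 1 := Subtype.ext h
      rw [h4, map_one, Units.val_one, mul_one]
      rfl
    · have h4 : Θ.symm (w : E) = z := by
        rw [h]
        exact Θ.symm_apply_apply z
      have hw2 : w * w = 1 := Subtype.ext (by
        show (w : E) * w = 1
        rw [h, ← map_mul, h2.zz, map_one])
      have hw1 : w ≠ 1 := by
        intro h5
        rw [h5] at h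
        have : θ z = θ 1 := by rw [← h, map_one]; rfl
        exact h2.z1 (hinj this)
      have h5 : (l w : ℂ) * (l w : ℂ) = 1 := by rw [← Units.val_mul, ← map_mul, hw2, map_one, Units.val_one]
      have h6 : (l w : ℂ) = -1 := by
        rcases mul_self_eq_one_iff.1 h5 with h7 | h7
        · exact absurd (hl ((Units.ext h7).trans (map_one l).symm)) hw1
        · exact h7
      rw [h6]
      show χ (Θ.symm (w : E)) = χ (Θ.symm 1) * -1
      rw [h4, map_one]
      have := hχz 1
      rw [one_mul] at this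
      rw [this]
      ring
  · have h4 : charDegree (fun g => χ (Θ.symm g)) = charDegree χ := by
      unfold charDegree
      show ⌊(χ (Θ.symm 1)).re⌋₊ = _
      rw [map_one]
    rw [h4]
    exact hχ3

end Cfsg.Agent.H509.RIM.GTwo
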