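import Cfsg.Agent.H665.RIM.Defs
import Cfsg.Agent.H678.PV.CoThreeFive
import Cfsg.Agent.Characters.SchurBound
import Cfsg.Agent.H622.Over

/-!
# An irreducible constituent of the Leech character of degree divisible by three (S4816; helper509)

`x` of order 13 without fixed vectors, conjugate to `x ^ 3`.
-/

set_option autoImplicit false
set_option linter.unusedSectionVars false

namespace Cfsg.Agent.H509.RIM

open Cfsg Cfsg.Agent.Characters.Core Cfsg.Agent.H419.LeechIrr Cfsg.Agent.H678.PV.CoThreeFive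
open scoped ComplexConjugate

universe u

variable {G : Type u} [Group G] [Finite G]

/-- inner products of restrictions of constituents -/
theorem inner_res_eq_zero [Fintype G] {H : Subgroup G} [Fintype H] {ψ : G → ℂ} (hψ : IsCharacter G ψ)
    (h0 : classInner (fun y : H => ψ y) 1 = 0) {χ : G → ℂ} (hχ : IsIrrCharacter G χ) (hne : classInner ψ χ ≠ 0) :
    classInner (fun y : H => χ y) 1 = 0 := by
  classical
  have := finite_irr (G := G)
  have := Fintype.ofFinite (IrrCharacter G)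
  obtain ⟨m, hm⟩ := exists_nat_comb hψ
  have hres : ∀ ξ : IrrCharacter G, ∃ n : ℕ, classInner (fun y : H => (ξ : G → ℂ) y) 1 = n := fun ξ =>
    classInner_isNat (isCharacter_comp H.subtype (isIrr_isCharacter ξ.2)) isCharacter_one
  choose n hn using hres
  have h1 : classInner (fun y : H => ψ y) 1 = ((∑ ξ : IrrCharacter G, m ξ * n ξ : ℕ) : ℂ) := by
    have e : (fun y : H => ψ y) = ∑ ξ : IrrCharacter G, ((m ξ : ℂ) • fun y : H => (ξ : G → ℂ) y) := by
      funext y
      rw [hm]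
      simp [Finset.sum_apply]
    rw [e, classInner_sum_left]
    push_cast
    refine Finset.sum_congr rfl fun ξ _ => ?_
    rw [classInner_smul_left, hn]
  rw [h0] at h1
  have h2 : (∑ ξ : IrrCharacter G, m ξ * n ξ : ℕ) = 0 := by exact_mod_cast h1.symm
  have h3 := (Finset.sum_eq_zero_iff.1 h2) ⟨χ, hχ⟩ (Finset.mem_univ _)
  have h4 : classInner ψ χ = m ⟨χ, hχ⟩ := by
    rw [hm]
    exact classInner_sum_nsmul_irr m ⟨χ, hχ⟩
  have h5 : m ⟨χ, hχ⟩ ≠ 0 := by
    intro h
    rw [h4, h] at hne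
    exact hne (by simp)
  have h6 : n ⟨χ, hχ⟩ = 0 := (mul_eq_zero.1 h3).resolve_left h5
  have h7 := hn ⟨χ, hχ⟩
  rw [h6] at h7
  simpa using h7

/-- the sum over the powers -/
theorem sum_pow_eq_zero [Fintype G] {x : G} (hx : orderOf x = 13) {χ : G → ℂ} [Fintype (Subgroup.zpowers x)]
    (h0 : classInner (fun y : Subgroup.zpowers x => χ y) 1 = 0) : ∑ i ∈ Finset.range 13, χ (x ^ i) = 0 := by
  have hc : Nat.card (Subgroup.zpowers x) = 13 := by rw [Nat.card_zpowers, hx]
  rw [classInner_def, inv_mul_eq_iff_eq_mul₀ card_ne_zero_complex, mul_zero] at h0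
  rw [← h0]
  refine Finset.sum_bij (fun k _ => (⟨x ^ k, Subgroup.npow_mem_zpowers x k⟩ : Subgroup.zpowers x)) ?_ ?_ ?_ ?_
  · intro k _
    exact Finset.mem_univ _
  · intro k hk l hl hkl
    have h1 : x ^ k = x ^ l := congrArg Subtype.val hkl
    rw [← hx] at hk hl
    exact pow_injOn_Iio_orderOf (Finset.mem_range.1 hk) (Finset.mem_range.1 hl) h1
  · rintro ⟨y, hy⟩ _
    obtain ⟨k, rfl⟩ := (mem_powers_iff_mem_zpowers.2 hy : y ∈ Submonoid.powers x)
    refine ⟨k % 13, Finset.mem_range.2 (Nat.mod_lt _ (by norm_num)), ?_⟩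
    apply Subtype.ext
    show x ^ (k % 13) = x ^ k
    rw [← hx, pow_mod_orderOf]
  · intro k _
    rw [Pi.one_apply, map_one, mul_one]

/-- the degree is divisible by three -/
theorem three_dvd {x k : G} (hx : orderOf x = 13) (hk : k * x * k⁻¹ = x ^ 3) {χ : G → ℂ} (hχ : IsIrrCharacter G χ)
    (hs : ∑ i ∈ Finset.range 13, χ (x ^ i) = 0) : 3 ∣ charDegree χ := by
  have hcl : ∀ i : ℕ, χ (x ^ (3 * i)) = χ (x ^ i) := by
    intro i
    have h1 : x ^ (3 * i) = k * x ^ i * k⁻¹ := by rw [← conj_pow, hk, pow_mul]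
    rw [h1]
    exact isIrr_isClassFunction hχ _ _
  have h13 : ∀ i : ℕ, x ^ (i + 13) = x ^ i := fun i => by rw [pow_add, ← hx, pow_orderOf_eq_one, mul_one]
  have e3 : χ (x ^ 3) = χ (x ^ 1) := hcl 1
  have e9 : χ (x ^ 9) = χ (x ^ 3) := hcl 3
  have e6 : χ (x ^ 6) = χ (x ^ 2) := hcl 2
  have e5 : χ (x ^ 5) = χ (x ^ 6) := by rw [← hcl 6]; exact congrArg χ (h13 5).symm
  have e12 : χ (x ^ 12) = χ (x ^ 4) := hcl 4
  have e10 : χ (x ^ 10) = χ (x ^ 12) := by
    rw [← hcl 12]; exact congrArg χ (by rw [show 3 * 12 = 10 + 13 + 13 by norm_num, h13, h13])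
  have e8 : χ (x ^ 8) = χ (x ^ 7) := by rw [← hcl 7]; exact congrArg χ (h13 8).symm
  have e11 : χ (x ^ 11) = χ (x ^ 8) := by rw [← hcl 8]; exact congrArg χ (h13 11).symm
  obtain ⟨n, hn, hn1⟩ := isIrr_apply_one hχ
  have hsum : (n : ℂ) = 3 * -(χ (x ^ 1) + χ (x ^ 2) + χ (x ^ 4) + χ (x ^ 7)) := by
    simp only [Finset.sum_range_succ, Finset.sum_range_zero, zero_add, pow_zero] at hs
    rw [hn1, e9, e3, e5, e6, e10, e12, e11, e8] at hs
    linear_combination hs
  set s : ℂ := -(χ (x ^ 1) + χ (x ^ 2) + χ (x ^ 4) + χ (x ^ 7)) with hsdef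
  have hint : IsIntegral ℤ s := by
    have hi := fun g => Cfsg.Agent.Characters.GaloisBasic.isIntegral_apply (isIrr_isCharacter hχ) g
    exact ((((hi _).add (hi _)).add (hi _)).add (hi _)).neg
  have hq : s = (((n : ℚ) / 3 : ℚ) : ℂ) := by
    push_cast
    rw [hsum]
    ring
  obtain ⟨a, ha⟩ := Cfsg.Agent.Characters.SchurBound.exists_int_of_rat hint hq
  have h3 : (n : ℤ) = 3 * a := by
    rw [ha] at hsum
    exact_mod_cast hsum
  have hdeg : charDegree χ = n := by
    unfold charDegree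
    rw [hn1]
    simp
  rw [hdeg]
  exact Int.natCast_dvd_natCast.1 ⟨a, by exact_mod_cast h3⟩

/-- the sign of a central element -/
theorem sign_of_inner [Fintype G] {z : G} (hz : z ∈ Subgroup.center G) {ψ : G → ℂ} (hψ : ∀ g, ψ (g * z) = -ψ g)
    {χ : G → ℂ} (hχ : IsIrrCharacter G χ) (hz2 : z * z = 1) (hne : classInner ψ χ ≠ 0) :
    ∀ g, χ (g * z) = -χ g := by
  obtain ⟨c, hc⟩ := Cfsg.Agent.H622.Over.exists_hom (le_refl (Subgroup.center G)) hχ
  have h1 : ∀ g, χ (g * z) = χ g * (c ⟨z, hz⟩ : ℂ) := fun g => hc g ⟨z, hz⟩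
  have hcc : (c ⟨z, hz⟩ : ℂ) * (c ⟨z, hz⟩ : ℂ) = 1 := by
    rw [← Units.val_mul, ← map_mul]
    have : (⟨z, hz⟩ * ⟨z, hz⟩ : Subgroup.center G) = 1 := Subtype.ext hz2
    rw [this, map_one, Units.val_one]
  rcases mul_self_eq_one_iff.1 hcc with h | h
  · exfalso
    apply hne
    have h2 : ∑ g, ψ g * conj (χ g) = -∑ g, ψ g * conj (χ g) := by
      conv_lhs => rw [← Equiv.sum_comp (Equiv.mulRight z)]
      rw [← Finset.sum_neg_distrib]
      refine Finset.sum_congr rfl fun g _ => ?_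
      rw [Equiv.coe_mulRight, hψ, h1, h, mul_one, neg_mul]
    have h3 : ∑ g, ψ g * conj (χ g) = 0 := by linear_combination h2 / 2
    rw [classInner_def, h3, mul_zero]
  · intro g
    rw [h1, h]
    ring

theorem exists_constituent [Fintype G] {ψ : G → ℂ} (hψ : IsCharacter G ψ) (h0 : ψ ≠ 0) :
    ∃ χ : G → ℂ, IsIrrCharacter G χ ∧ classInner ψ χ ≠ 0 := by
  classical
  have := finite_irr (G := G)
  have := Fintype.ofFinite (IrrCharacter G)
  by_contra hcon
  push Not at hcon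
  obtain ⟨m, hm⟩ := exists_nat_comb hψ
  apply h0
  rw [hm]
  refine Finset.sum_eq_zero fun ξ _ => ?_
  have h1 := hcon ξ ξ.2
  rw [hm] at h1
  have h2 := classInner_sum_nsmul_irr m ξ
  rw [h2] at h1
  have h3 : m ξ = 0 := by exact_mod_cast h1
  rw [h3, zero_smul]

/-- **A faithful character of degree divisible by three.** -/
theorem exists_three (f : G →* Co0) {z x k : G} (hz : z ∈ Subgroup.center G) (hz2 : z * z = 1)
    (hfz : ∀ g, lchi f (g * z) = -lchi f g) (hx : orderOf x = 13) (hk : k * x * k⁻¹ = x ^ 3) (ht : lchi f x = -2) :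
    ∃ χ : G → ℂ, IsIrrCharacter G χ ∧ (∀ g, χ (g * z) = -χ g) ∧ 3 ∣ charDegree χ := by
  classical
  have := Fintype.ofFinite G
  have hψ := isCharacter_lchi f
  obtain ⟨χ, hχ, hne⟩ := exists_constituent hψ (fun h => by
    have h1 := lchi_one f
    rw [h] at h1
    norm_num at h1)
  have hc : Nat.card (Subgroup.zpowers x) = 13 := by rw [Nat.card_zpowers, hx]
  have := Fintype.ofFinite (Subgroup.zpowers x)
  refine ⟨χ, hχ, sign_of_inner hz hfz hχ hz2 hne, three_dvd hx hk hχ (sum_pow_eq_zero hx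
    (inner_res_eq_zero hψ ?_ hχ hne))⟩
  -- the inner product of the restriction
  have hrat := lchi_rat (f.comp (Subgroup.zpowers x).subtype)
  have hch : IsCharacter (Subgroup.zpowers x) (lchi (f.comp (Subgroup.zpowers x).subtype)) := isCharacter_lchi _
  let xx : Subgroup.zpowers x := ⟨x, Subgroup.mem_zpowers x⟩
  have hpow : ∀ j : ℕ, ¬ 13 ∣ j → lchi f (x ^ j) = -2 := by
    intro j hj
    have h1 : j.Coprime (Nat.card (Subgroup.zpowers x)) := by
      rw [hc]
      exact ((Nat.Prime.coprime_iff_not_dvd (by norm_num)).2 hj).symm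
    rw [← ht]
    exact (Cfsg.Agent.Characters.GaloisBasic.exists_rat_iff hch xx).1 (hrat xx) j h1
  rw [classInner_def, inv_mul_eq_iff_eq_mul₀ card_ne_zero_complex, mul_zero]
  have h2 : ∑ i ∈ Finset.range 13, lchi f (x ^ i) = 0 := by
    rw [Finset.sum_range_succ', pow_zero, lchi_one]
    rw [Finset.sum_congr rfl (fun i hi => hpow (i + 1) (fun hd => by
      have := Finset.mem_range.1 hi
      have := Nat.le_of_dvd (by omega) hd
      omega))]
    simp
    norm_num
  rw [← h2]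
  symm
  refine Finset.sum_bij (fun k _ => (⟨x ^ k, Subgroup.npow_mem_zpowers x k⟩ : Subgroup.zpowers x)) ?_ ?_ ?_ ?_
  · intro k _
    exact Finset.mem_univ _
  · intro k hk l hl hkl
    have h1 : x ^ k = x ^ l := congrArg Subtype.val hkl
    rw [← hx] at hk hl
    exact pow_injOn_Iio_orderOf (Finset.mem_range.1 hk) (Finset.mem_range.1 hl) h1
  · rintro ⟨y, hy⟩ _
    obtain ⟨k, rfl⟩ := (mem_powers_iff_mem_zpowers.2 hy : y ∈ Submonoid.powers x)
    refine ⟨k % 13, Finset.mem_range.2 (Nat.mod_lt _ (by norm_num)), ?_⟩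
    apply Subtype.ext
    show x ^ (k % 13) = x ^ k
    rw [← hx, pow_mod_orderOf]
  · intro k _
    rw [Pi.one_apply, map_one, mul_one]

end Cfsg.Agent.H509.RIM
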